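import Groth.Prelude.Def_NCTr
import Mathlib.RingTheory.DiscreteValuationRing.Basic

/-!
# Leading terms in discrete valuation rings over a field
-/

set_option autoImplicit false

namespace Groth.Agent.Fixpt.H551.Slopes

open IsLocalRing

variable {k : Type*} [Field k] {R R' : Type*} [CommRing R] [IsDomain R] [IsDiscreteValuationRing R] [Algebra k R]
  [CommRing R'] [IsDomain R'] [IsDiscreteValuationRing R'] [Algebra k R']

/-- `x` has leading term `a w ^ m`. -/
def Lead (w x : R) (m : ℕ) (a : k) : Prop :=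
  x - algebraMap k R a * w ^ m ∈ maximalIdeal R ^ (m + 1)

theorem mem_pow_iff {w : R} (hw : Irreducible w) (m : ℕ) (x : R) :
    x ∈ maximalIdeal R ^ m ↔ w ^ m ∣ x := by
  rw [hw.maximalIdeal_eq, Ideal.span_singleton_pow, Ideal.mem_span_singleton]

theorem not_mem {w : R} (hw : Irreducible w) (m : ℕ) {a : k} (ha : a ≠ 0) :
    algebraMap k R a * w ^ m ∉ maximalIdeal R ^ (m + 1) := by
  rw [mem_pow_iff hw]
  intro h
  have hu : IsUnit (algebraMap k R a) := (IsUnit.mk0 a ha).map _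
  rw [hu.dvd_mul_left] at h
  rw [pow_succ] at h
  obtain ⟨c, hc⟩ := h
  have h1 : w * c = 1 := by
    have h2 : w ^ m * 1 = w ^ m * (w * c) := by rw [mul_one, ← mul_assoc]; exact hc
    exact (mul_left_cancel₀ (pow_ne_zero m hw.ne_zero) h2).symm
  exact hw.not_isUnit (IsUnit.of_mul_eq_one _ h1)

theorem Lead.mem {w x : R} (hw : Irreducible w) {m : ℕ} {a : k} (h : Lead w x m a) :
    x ∈ maximalIdeal R ^ m := by
  have h1 : algebraMap k R a * w ^ m ∈ maximalIdeal R ^ m := by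
    rw [mem_pow_iff hw]; exact Dvd.intro_left _ rfl
  have h2 : x - algebraMap k R a * w ^ m ∈ maximalIdeal R ^ m := Ideal.pow_le_pow_right (Nat.le_succ m) h
  have := add_mem h2 h1
  rwa [sub_add_cancel] at this

theorem Lead.le {w x : R} (hw : Irreducible w) {m n : ℕ} {a b : k} (ha : a ≠ 0) (h : Lead w x m a)
    (h' : Lead w x n b) : n ≤ m := by
  by_contra hlt
  push Not at hlt
  have h1 : x ∈ maximalIdeal R ^ (m + 1) := Ideal.pow_le_pow_right hlt (h'.mem hw)
  have h2 := sub_mem h1 h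
  rw [sub_sub_cancel] at h2
  exact not_mem hw m ha h2

theorem Lead.unique {w x : R} (hw : Irreducible w) {m n : ℕ} {a b : k} (ha : a ≠ 0) (hb : b ≠ 0)
    (h : Lead w x m a) (h' : Lead w x n b) : m = n ∧ a = b := by
  have hmn : m = n := le_antisymm (h'.le hw hb h) (h.le hw ha h')
  subst hmn
  refine ⟨rfl, ?_⟩
  by_contra hab
  have h1 := sub_mem h' h
  have h2 : x - algebraMap k R b * w ^ m - (x - algebraMap k R a * w ^ m) =
      algebraMap k R (a - b) * w ^ m := by
    rw [map_sub]; ring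
  rw [h2] at h1
  exact not_mem hw m (sub_ne_zero.mpr hab) h1

theorem Lead.map {w x : R} (hw : Irreducible w) {w' : R'} (hw' : Irreducible w') (φ : R →ₐ[k] R')
    {m r : ℕ} (hr : 1 ≤ r) {a c : k} (h : Lead w x m a) (hφ : Lead w' (φ w) r c) :
    Lead w' (φ x) (r * m) (a * c ^ m) := by
  have hmem := hφ.mem hw'
  have hq : algebraMap k R' c * w' ^ r ∈ maximalIdeal R' ^ r := by
    rw [mem_pow_iff hw']; exact Dvd.intro_left _ rfl
  have key : ∀ m : ℕ, φ w ^ m - (algebraMap k R' c * w' ^ r) ^ m ∈ maximalIdeal R' ^ (r * m + 1) := by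
    intro m
    induction m with
    | zero => simp
    | succ m ih =>
      have e : φ w ^ (m + 1) - (algebraMap k R' c * w' ^ r) ^ (m + 1) =
          φ w ^ m * (φ w - algebraMap k R' c * w' ^ r) +
            (φ w ^ m - (algebraMap k R' c * w' ^ r) ^ m) * (algebraMap k R' c * w' ^ r) := by ring
      rw [e]
      refine add_mem ?_ ?_
      · have h1 : φ w ^ m ∈ maximalIdeal R' ^ (r * m) := by
          rw [pow_mul]; exact Ideal.pow_mem_pow hmem m
        have h2 := Ideal.mul_mem_mul h1 hφ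
        rw [← pow_add] at h2
        convert h2 using 2
        ring
      · have h2 := Ideal.mul_mem_mul ih hq
        rw [← pow_add] at h2
        convert h2 using 2
        ring
  unfold Lead
  obtain ⟨y, hy⟩ := (mem_pow_iff hw (m + 1) _).mp h
  have hx : x = algebraMap k R a * w ^ m + w ^ (m + 1) * y := by rw [← hy]; ring
  have e : φ x - algebraMap k R' (a * c ^ m) * w' ^ (r * m) =
      algebraMap k R' a * (φ w ^ m - (algebraMap k R' c * w' ^ r) ^ m) + φ w ^ (m + 1) * φ y := by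
    rw [hx, map_add, map_mul, map_mul, map_pow, map_pow, AlgHom.commutes, map_mul, map_pow]
    ring
  rw [e]
  refine add_mem (Ideal.mul_mem_left _ _ (key m)) (Ideal.mul_mem_right _ _ ?_)
  have h1 : φ w ^ (m + 1) ∈ maximalIdeal R' ^ (r * (m + 1)) := by
    rw [pow_mul]; exact Ideal.pow_mem_pow hmem _
  exact Ideal.pow_le_pow_right (by nlinarith) h1

theorem slope_eq {k : Type*} [Field k] {RX RY RW RX' RY' RW' : Type*}
    [CommRing RX] [CommRing RY] [CommRing RW] [CommRing RX'] [CommRing RY'] [CommRing RW']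
    [IsDomain RX] [IsDiscreteValuationRing RX] [IsDomain RY] [IsDiscreteValuationRing RY]
    [IsDomain RW] [IsDiscreteValuationRing RW] [IsDomain RX'] [IsDiscreteValuationRing RX']
    [IsDomain RY'] [IsDiscreteValuationRing RY'] [IsDomain RW'] [IsDiscreteValuationRing RW']
    [Algebra k RX] [Algebra k RY] [Algebra k RW] [Algebra k RX'] [Algebra k RY'] [Algebra k RW']
    (s₁ : RX →ₐ[k] RW) (s₂ : RY →ₐ[k] RW) (s₁' : RX' →ₐ[k] RW') (s₂' : RY' →ₐ[k] RW')
    (f : RX →ₐ[k] RX') (g : RY →ₐ[k] RY') (h : RW →ₐ[k] RW')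
    (hc₁ : ∀ x : RX, h (s₁ x) = s₁' (f x)) (hc₂ : ∀ y : RY, h (s₂ y) = s₂' (g y))
    (u : RX) (v : RY) (w : RW) (u' : RX') (v' : RY') (w' : RW')
    (hw : Irreducible w) (hu' : Irreducible u') (hv' : Irreducible v') (hw' : Irreducible w')
    (m n m' n' d r : ℕ) (hm' : 1 ≤ m') (hn' : 1 ≤ n') (hd : 1 ≤ d) (hr : 1 ≤ r)
    (a b a' b' α β γ : k) (ha : a ≠ 0) (hb : b ≠ 0) (ha' : a' ≠ 0) (hb' : b' ≠ 0)
    (hα : α ≠ 0) (hβ : β ≠ 0) (hγ : γ ≠ 0)
    (h₁ : Lead w (s₁ u) m a) (h₂ : Lead w (s₂ v) n b)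
    (h₁' : Lead w' (s₁' u') m' a') (h₂' : Lead w' (s₂' v') n' b')
    (hf : Lead u' (f u) d α) (hg : Lead v' (g v) d β) (hh : Lead w' (h w) r γ) :
    Trait.slope m n a b = Trait.scalePow (β / α) d (Trait.slope m' n' a' b') := by
  obtain ⟨e1, e2⟩ : r * m = m' * d ∧ a * γ ^ m = α * a' ^ d := by
    refine Lead.unique hw' (mul_ne_zero ha (pow_ne_zero _ hγ)) (mul_ne_zero hα (pow_ne_zero _ ha'))
      (h₁.map hw hw' h hr hh) ?_
    rw [hc₁]
    exact hf.map hu' hw' s₁' hm' h₁'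
  obtain ⟨e3, e4⟩ : r * n = n' * d ∧ b * γ ^ n = β * b' ^ d := by
    refine Lead.unique hw' (mul_ne_zero hb (pow_ne_zero _ hγ)) (mul_ne_zero hβ (pow_ne_zero _ hb'))
      (h₂.map hw hw' h hr hh) ?_
    rw [hc₂]
    exact hg.map hv' hw' s₂' hn' h₂'
  have hlt : m < n ↔ m' < n' := by
    rw [← Nat.mul_lt_mul_left (a := r) (by lia), e1, e3, Nat.mul_lt_mul_right (by lia)]
  have hgt : n < m ↔ n' < m' := by
    rw [← Nat.mul_lt_mul_left (a := r) (by lia), e1, e3, Nat.mul_lt_mul_right (by lia)]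
  unfold Trait.slope
  by_cases c1 : m' < n'
  · rw [if_pos (hlt.mpr c1), if_pos c1]
    change ((0 : k) : WithTop k) = ((β / α * 0 ^ d : k) : WithTop k)
    rw [zero_pow (by lia), mul_zero]
  · rw [if_neg (fun hh => c1 (hlt.mp hh)), if_neg c1]
    by_cases c2 : n' < m'
    · rw [if_pos (hgt.mpr c2), if_pos c2]
      rfl
    · rw [if_neg (fun hh => c2 (hgt.mp hh)), if_neg c2]
      change ((b / a : k) : WithTop k) = ((β / α * (b' / a') ^ d : k) : WithTop k)
      congr 1
      have hmn : m = n := by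
        have h1 := fun hh => c1 (hlt.mp hh)
        have h2 := fun hh => c2 (hgt.mp hh)
        lia
      subst hmn
      have hγm : γ ^ m ≠ 0 := pow_ne_zero _ hγ
      have had : a' ^ d ≠ 0 := pow_ne_zero _ ha'
      rw [div_pow, div_mul_div_comm, ← e2, ← e4, mul_div_mul_right _ _ hγm]

end Groth.Agent.Fixpt.H551.Slopes
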